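import Cfsg.Agent.Lib.Helper7.GolayM24
import Cfsg.Agent.Lib.Helper7.Tits.Tab
import Cfsg.Agent.Lib.Helper7.Ext23.Data
import Cfsg.Prelude.Def_Spor_Mathieu

set_option autoImplicit false

/-! # An extension of `M23` by the functionals on the code words vanishing at the extra point

Pairs `(σ, f)` of an element of `M23` and a function on the code words vanishing at the extra
point whose defect of additivity is the variation of a fixed function of two arguments under
`σ`. -/

namespace Cfsg.Agent.Lib.Helper7.X23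

open Cfsg Cfsg.Agent.Lib.Helper7

/-- words on the 24 points -/
abbrev V : Type := GolayPt → ZMod 2

/-! ### arithmetic in `ZMod 2` -/

/-- a bit as an element of `ZMod 2` -/
def b2z (b : Bool) : ZMod 2 := if b then 1 else 0

theorem b2z_xor (a b : Bool) : b2z (Bool.xor a b) = b2z a + b2z b := by
  cases a <;> cases b <;> decide

theorem z2_self : ∀ a : ZMod 2, a + a = 0 := by decide

theorem z2_mul : ∀ A B C D E F T1 T2 T3 : ZMod 2, A + C + E = T2 + T1 → B + D + F = T3 + T2 →
    A + B + (C + D) + (E + F) = T3 + T1 := by decide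

theorem z2_add3 : ∀ a b c : ZMod 2, a + b + c = 0 → a = b + c := by decide

theorem z2_four : ∀ a b : ZMod 2, a + b + a + b = 0 := by decide

theorem z2_aba : ∀ a b : ZMod 2, a + b + a = b := by decide

/-! ### the code words vanishing at the extra point -/

/-- the code words vanishing at the extra point -/
def C0 : Submodule (ZMod 2) V where
  carrier := {w | w ∈ golayCode ∧ w none = 0}
  add_mem' := by
    rintro a b ⟨ha, ha0⟩ ⟨hb, hb0⟩
    exact ⟨golayCode.add_mem ha hb, by rw [Pi.add_apply, ha0, hb0, add_zero]⟩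
  zero_mem' := ⟨golayCode.zero_mem, rfl⟩
  smul_mem' := by
    rintro r a ⟨ha, ha0⟩
    exact ⟨golayCode.smul_mem r ha, by rw [Pi.smul_apply, ha0, smul_zero]⟩

theorem mem_C0 {w : V} : w ∈ C0 ↔ w ∈ golayCode ∧ w none = 0 := Iff.rfl

theorem symm_none {σ : Equiv.Perm GolayPt} (hσ : σ ∈ Spor.M23) : σ.symm none = none := by
  have h : σ none = none := (Subgroup.mem_inf.mp hσ).2
  rw [Equiv.symm_apply_eq]
  exact h.symm

/-- the action of `M23` on these code words -/
def act (σ : ↥Spor.M23) (c : ↥C0) : ↥C0 :=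
  ⟨c.1 ∘ ⇑(σ.1).symm, comp_symm_mem_of_mem_M24 (Subgroup.mem_inf.mp σ.2).1 c.2.1, by
    show c.1 ((σ.1).symm none) = 0
    rw [symm_none σ.2]
    exact c.2.2⟩

theorem act_val (σ : ↥Spor.M23) (c : ↥C0) : (act σ c).1 = c.1 ∘ ⇑(σ.1).symm := rfl

theorem act_one (c : ↥C0) : act 1 c = c := Subtype.ext rfl

theorem act_mul (σ τ : ↥Spor.M23) (c : ↥C0) : act (σ * τ) c = act σ (act τ c) :=
  Subtype.ext rfl

theorem act_add (σ : ↥Spor.M23) (c d : ↥C0) : act σ (c + d) = act σ c + act σ d :=
  Subtype.ext rfl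

theorem act_inv_act (σ : ↥Spor.M23) (c : ↥C0) : act σ⁻¹ (act σ c) = c := by
  rw [← act_mul, inv_mul_cancel, act_one]

theorem act_act_inv (σ : ↥Spor.M23) (c : ↥C0) : act σ (act σ⁻¹ c) = c := by
  rw [← act_mul, mul_inv_cancel, act_one]

/-! ### the function of two arguments -/

/-- lane of a packed table -/
def lane11 (T x : ℕ) : ℕ := (T >>> (11 * x)) % 2048

theorem lane11_lt (T x : ℕ) : lane11 T x < 2048 := Nat.mod_lt _ (by norm_num)

/-- index of a word: its information bits -/
noncomputable def ix (c : V) : ℕ := maskOf c >>> 12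

/-- the function of two arguments -/
noncomputable def th (c d : V) : ZMod 2 := b2z (PAR.testBit (lane11 RT (ix c) &&& ix d))

/-! ### the group -/

/-- the elements of the extension -/
structure EE where
  /-- the permutation -/
  p : ↥Spor.M23
  /-- the function -/
  f : ↥C0 → ZMod 2
  /-- the defect of additivity -/
  h : ∀ c d : ↥C0, f (c + d) + f c + f d = th (act p⁻¹ c).1 (act p⁻¹ d).1 + th c.1 d.1

theorem EE.ext' {x y : EE} (hp : x.p = y.p) (hf : ∀ c, x.f c = y.f c) : x = y := by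
  cases x
  cases y
  simp only [EE.mk.injEq]
  exact ⟨hp, funext hf⟩

instance : Mul EE := ⟨fun x y => ⟨x.p * y.p, fun c => x.f c + y.f (act x.p⁻¹ c), by
  intro c d
  have h1 := x.h c d
  have h2 := y.h (act x.p⁻¹ c) (act x.p⁻¹ d)
  rw [act_add, mul_inv_rev, act_mul, act_mul]
  exact z2_mul _ _ _ _ _ _ _ _ _ h1 h2⟩⟩

instance : One EE := ⟨⟨1, fun _ => 0, by
  intro c d
  rw [inv_one, act_one, act_one, z2_self (th c.1 d.1)]
  exact z2_self 0⟩⟩

instance : Inv EE := ⟨fun x => ⟨x.p⁻¹, fun c => x.f (act x.p c), by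
  intro c d
  have h1 := x.h (act x.p c) (act x.p d)
  rw [act_inv_act, act_inv_act] at h1
  rw [inv_inv, act_add, h1, add_comm]⟩⟩

theorem mul_p (x y : EE) : (x * y).p = x.p * y.p := rfl
theorem mul_f (x y : EE) (c : ↥C0) : (x * y).f c = x.f c + y.f (act x.p⁻¹ c) := rfl
theorem one_p : (1 : EE).p = 1 := rfl
theorem one_f (c : ↥C0) : (1 : EE).f c = 0 := rfl
theorem inv_p (x : EE) : (x⁻¹).p = x.p⁻¹ := rfl
theorem inv_f (x : EE) (c : ↥C0) : (x⁻¹).f c = x.f (act x.p c) := rfl

instance : Group EE := Group.ofLeftAxioms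
  (fun x y z => EE.ext' (mul_assoc _ _ _) (fun c => by
    rw [mul_f, mul_f, mul_f, mul_f, mul_p, mul_inv_rev, act_mul, add_assoc]))
  (fun x => EE.ext' (one_mul _) (fun c => by
    rw [mul_f, one_f, one_p, inv_one, act_one, zero_add]))
  (fun x => EE.ext' (inv_mul_cancel _) (fun c => by
    rw [mul_f, inv_f, inv_p, inv_inv, one_f, z2_self]))

/-- the projection to `M23` -/
def pr : EE →* ↥Spor.M23 where
  toFun := EE.p
  map_one' := rfl
  map_mul' := fun _ _ => rfl

theorem pr_apply (x : EE) : pr x = x.p := rfl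

instance : Finite EE :=
  Finite.of_injective (fun x : EE => (x.p, x.f)) (by
    intro x y hxy
    have h1 : x.p = y.p := congrArg Prod.fst hxy
    have h2 : x.f = y.f := congrArg Prod.snd hxy
    exact EE.ext' h1 (fun c => congrFun h2 c))

/-! ### the kernel -/

/-- the pairing of two words -/
def dot (w c : V) : ZMod 2 := ∑ i, w i * c i

theorem dot_add_left (w w' c : V) : dot (w + w') c = dot w c + dot w' c := by
  unfold dot
  rw [← Finset.sum_add_distrib]
  exact Finset.sum_congr rfl (fun i _ => by rw [Pi.add_apply, add_mul])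

theorem dot_add_right (w c c' : V) : dot w (c + c') = dot w c + dot w c' := by
  unfold dot
  rw [← Finset.sum_add_distrib]
  exact Finset.sum_congr rfl (fun i _ => by rw [Pi.add_apply, mul_add])

theorem dot_zero_left (c : V) : dot 0 c = 0 := by
  unfold dot
  exact Finset.sum_eq_zero (fun i _ => by rw [Pi.zero_apply, zero_mul])

/-- the element of the kernel given by a word -/
def nEl (w : V) : EE := ⟨1, fun c => dot w c.1, by
  intro c d
  rw [inv_one, act_one, act_one, z2_self]
  have h : (c + d : ↥C0).1 = c.1 + d.1 := rfl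
  rw [h, dot_add_right]
  exact z2_four _ _⟩

theorem nEl_p (w : V) : (nEl w).p = 1 := rfl
theorem nEl_f (w : V) (c : ↥C0) : (nEl w).f c = dot w c.1 := rfl

theorem nEl_mem (w : V) : nEl w ∈ pr.ker := MonoidHom.mem_ker.mpr rfl

theorem nEl_add (w w' : V) : nEl (w + w') = nEl w * nEl w' :=
  EE.ext' (by rw [mul_p, nEl_p, nEl_p, nEl_p, one_mul]) (fun c => by
    rw [mul_f, nEl_f, nEl_f, nEl_p, inv_one, act_one, nEl_f, dot_add_left])

theorem nEl_zero : nEl 0 = 1 :=
  EE.ext' rfl (fun c => by rw [nEl_f, one_f, dot_zero_left])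

/-- the map of the statement -/
def theta : V →+ Additive ↥pr.ker where
  toFun w := Additive.ofMul ⟨nEl w, nEl_mem w⟩
  map_zero' := by
    have h : (⟨nEl 0, nEl_mem 0⟩ : ↥pr.ker) = 1 := Subtype.ext nEl_zero
    rw [h]
    rfl
  map_add' := by
    intro w w'
    have h : (⟨nEl (w + w'), nEl_mem (w + w')⟩ : ↥pr.ker)
        = ⟨nEl w, nEl_mem w⟩ * ⟨nEl w', nEl_mem w'⟩ := Subtype.ext (nEl_add w w')
    rw [h]
    rfl

theorem theta_val (w : V) : ((theta w).toMul : EE) = nEl w := rfl

theorem theta_eq_zero_iff (w : V) : theta w = 0 ↔ ∀ c : ↥C0, dot w c.1 = 0 := by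
  constructor
  · intro h c
    have h1 : nEl w = 1 := by
      have h2 := congrArg (fun a : Additive ↥pr.ker => ((a.toMul : ↥pr.ker) : EE)) h
      exact h2
    have h3 := congrArg (fun e : EE => e.f c) h1
    exact h3
  · intro h
    have h1 : nEl w = 1 := EE.ext' rfl (fun c => by rw [nEl_f, one_f, h c])
    have h2 : (⟨nEl w, nEl_mem w⟩ : ↥pr.ker) = 1 := Subtype.ext h1
    show Additive.ofMul (⟨nEl w, nEl_mem w⟩ : ↥pr.ker) = 0
    rw [h2]
    rfl

/-- every element of the kernel comes from a word -/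
theorem theta_surjective : Function.Surjective theta := by
  intro a
  obtain ⟨x, hx⟩ : ∃ x : ↥pr.ker, a = Additive.ofMul x := ⟨a.toMul, rfl⟩
  have hp : x.1.p = 1 := MonoidHom.mem_ker.mp x.2
  have hadd : ∀ c d : ↥C0, x.1.f (c + d) = x.1.f c + x.1.f d := by
    intro c d
    have h := x.1.h c d
    rw [hp, inv_one, act_one, act_one, z2_self] at h
    exact z2_add3 _ _ _ h
  let fl : ↥C0 →ₗ[ZMod 2] ZMod 2 := (AddMonoidHom.mk' x.1.f hadd).toZModLinearMap 2
  obtain ⟨g, hg⟩ := LinearMap.exists_extend fl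
  refine ⟨fun i => g (fun j => if i = j then 1 else 0), ?_⟩
  rw [hx]
  apply congrArg Additive.ofMul
  apply Subtype.ext
  refine EE.ext' hp.symm (fun c => ?_)
  rw [nEl_f]
  have h1 : g c.1 = x.1.f c := by
    have h2 := congrArg (fun l : ↥C0 →ₗ[ZMod 2] ZMod 2 => l c) hg
    exact h2
  rw [← h1, LinearMap.pi_apply_eq_sum_univ g c.1]
  unfold dot
  exact Finset.sum_congr rfl (fun i _ => by rw [smul_eq_mul, mul_comm])

/-- conjugation on the kernel -/
theorem conj_nEl (g : EE) (w : V) :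
    nEl (w ∘ ⇑((g.p : Equiv.Perm GolayPt)⁻¹)) = g * nEl w * g⁻¹ := by
  refine EE.ext' ?_ (fun c => ?_)
  · rw [mul_p, mul_p, nEl_p, nEl_p, inv_p, mul_one, mul_inv_cancel]
  · rw [mul_f, mul_f, inv_f, nEl_f, nEl_f, mul_p, nEl_p, mul_one, act_act_inv, z2_aba]
    unfold dot
    have h := Equiv.sum_comp (g.p : Equiv.Perm GolayPt)
      (fun i => (w ∘ ⇑((g.p : Equiv.Perm GolayPt)⁻¹)) i * c.1 i)
    rw [← h]
    refine Finset.sum_congr rfl (fun i _ => ?_)
    have e1 : (w ∘ ⇑((g.p : Equiv.Perm GolayPt)⁻¹)) ((g.p : Equiv.Perm GolayPt) i) = w i := by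
      show w ((g.p : Equiv.Perm GolayPt).symm ((g.p : Equiv.Perm GolayPt) i)) = w i
      rw [Equiv.symm_apply_apply]
    have e2 : (act g.p⁻¹ c).1 i = c.1 ((g.p : Equiv.Perm GolayPt) i) := rfl
    rw [e1, e2]

end Cfsg.Agent.Lib.Helper7.X23
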