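import Cfsg.Agent.Lib.Helper7.Ext23.ChkA1

set_option autoImplicit false

/-! # A quarter of the rows of the check for one of the two lifts -/

namespace Cfsg.Agent.Lib.Helper7.X23

open Cfsg.Agent.Lib.Helper7.TitsC

theorem chkA2 : allN 512 (fun i => chkRow2 FA AIA (1024 + i)) = true := by
  decide +kernel

end Cfsg.Agent.Lib.Helper7.X23
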