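import Cfsg.Agent.Lib.Helper7.Ext23.Gen

set_option autoImplicit false
set_option maxRecDepth 100000

/-! # The words orthogonal to the code words vanishing at the extra point -/

namespace Cfsg.Agent.Lib.Helper7.X23

open Cfsg Cfsg.Agent.Lib.Helper7 Cfsg.Agent.Lib.Helper7.TitsC

theorem allN_of (n : ℕ) (f : ℕ → Bool) (h : ∀ k < n, f k = true) : allN n f = true := by
  induction n with
  | zero => rfl
  | succ n ih =>
    rw [allN_succ, ih (fun k hk => h k (by omega)), h n (by omega)]
    rfl

/-- the pairing of two words given by bitmasks -/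
theorem dot_wordOf (m m' : ℕ) :
    dot (wordOf m) (wordOf m') = ((popc (m &&& m') : ℕ) : ZMod 2) := by
  unfold dot
  rw [← card_setOf, Cfsg.Agent.Lib.Helper7.setOf, Finset.card_filter, Nat.cast_sum]
  refine Finset.sum_congr rfl (fun i _ => ?_)
  have h1 : wordOf m i * wordOf m' i = wordOf (m &&& m') i := by
    rw [wordOf_and]
    rfl
  rw [h1, wordOf_apply]
  by_cases hb : (m &&& m').testBit (idx i) = true
  · rw [if_pos hb, if_pos hb, Nat.cast_one]
  · rw [if_neg hb, if_neg hb, Nat.cast_zero]

theorem gen_perp : genMasks.all (fun g =>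
    allN 2048 (fun k => popc (g &&& enc k) % 2 == 0)) = true := by
  decide +kernel

/-- code words are orthogonal to the code words vanishing at the extra point -/
theorem dot_code_C0 {w : V} (hw : w ∈ golayCode) (c : ↥C0) : dot w c.1 = 0 := by
  obtain ⟨x, hx, rfl⟩ := exists_cw c
  rw [cw_val hx]
  refine Submodule.span_induction (p := fun w _ => dot w (wordOf (enc x)) = 0) ?_ ?_ ?_ ?_ hw
  · intro v hv
    have hg : ∃ g ∈ genMasks, v = wordOf g := by
      rcases hv with ⟨t, rfl⟩ | hv
      · refine ⟨qrMasks.getD (ZMod.val t) 0, ?_, (wordOf_qrMasks t).symm⟩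
        have ht : ZMod.val t < 23 := ZMod.val_lt t
        rw [List.getD_eq_getElem _ _ (by simpa [qrMasks] using ht)]
        simp [genMasks]
      · exact ⟨16777215, by simp [genMasks], by
          rw [Set.mem_singleton_iff.mp hv, wordOf_allOnes]⟩
    obtain ⟨g, hg, rfl⟩ := hg
    rw [dot_wordOf]
    have h1 := allN_spec _ _ (List.all_eq_true.mp gen_perp g hg) x hx
    rw [beq_iff_eq] at h1
    exact (ZMod.natCast_eq_zero_iff _ 2).mpr (Nat.dvd_of_mod_eq_zero h1)
  · exact dot_zero_left _
  · intro a b _ _ ha hb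
    rw [dot_add_left, ha, hb, add_zero]
  · intro r a _ ha
    rcases zmod2_cases r with rfl | rfl
    · rw [zero_smul]
      exact dot_zero_left _
    · rw [one_smul]
      exact ha

theorem dot_single (c : V) : dot (Pi.single none 1) c = c none := by
  unfold dot
  rw [Finset.sum_eq_single none]
  · rw [Pi.single_eq_same, one_mul]
  · intro b _ hb
    rw [Pi.single_eq_of_ne hb, zero_mul]
  · intro h
    exact absurd (Finset.mem_univ _) h

theorem z2_abb : ∀ a b : ZMod 2, a = a + b + b := by decide

theorem dot_code_einf {w : V} (hw : w + Pi.single none 1 ∈ golayCode) (c : ↥C0) :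
    dot w c.1 = 0 := by
  have hw' : w = (w + Pi.single none 1) + Pi.single none 1 := by
    funext i
    exact z2_abb _ _
  rw [hw', dot_add_left, dot_code_C0 hw c, dot_single, c.2.2, add_zero]

theorem low_perp : allN 4096 (fun m =>
    !(allN 11 (fun j => popc (m &&& enc (2 ^ j)) % 2 == 0)) || m == 0 || m == 3189) = true := by
  decide +kernel

theorem wordOf_einf : wordOf 8388608 = Pi.single none 1 := by
  funext p
  revert p
  decide +kernel

theorem enc_2048 : enc 2048 = 8391797 := by decide +kernel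

/-- a word orthogonal to the code words vanishing at the extra point is a code word, up to
the extra point -/
theorem perp_C0 {w : V} (h : ∀ c : ↥C0, dot w c.1 = 0) :
    w ∈ golayCode ∨ w + Pi.single none 1 ∈ golayCode := by
  obtain ⟨m, hm, rfl⟩ : ∃ m < 2 ^ 24, w = wordOf m :=
    ⟨maskOf w, maskOf_lt w, (wordOf_maskOf w).symm⟩
  obtain ⟨k, hk⟩ : ∃ k, k = m >>> 12 := ⟨_, rfl⟩
  have hk4 : k < 4096 := by
    rw [hk, Nat.shiftRight_eq_div_pow]
    omega
  obtain ⟨m', hm'⟩ : ∃ m', m' = m ^^^ enc k := ⟨_, rfl⟩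
  have hm'4 : m' < 4096 := by
    have e : m' >>> 12 = 0 := by
      rw [hm', Nat.shiftRight_xor_distrib, enc_shift k hk4, ← hk, Nat.xor_self]
    rw [Nat.shiftRight_eq_div_pow] at e
    have e' : m' / 4096 = 0 := e
    omega
  have hperp : ∀ x < 2048, popc (m' &&& enc x) % 2 = 0 := by
    intro x hx
    have h1 := h (cw x)
    rw [cw_val hx] at h1
    have h2 := dot_code_C0 (wordOf_enc_mem k) (cw x)
    rw [cw_val hx] at h2
    have h3 : dot (wordOf m') (wordOf (enc x)) = 0 := by
      rw [hm', wordOf_xor, dot_add_left, h1, h2, add_zero]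
    rw [dot_wordOf] at h3
    exact Nat.mod_eq_zero_of_dvd ((ZMod.natCast_eq_zero_iff _ 2).mp h3)
  have hlow := allN_spec _ _ low_perp m' hm'4
  have hall : allN 11 (fun j => popc (m' &&& enc (2 ^ j)) % 2 == 0) = true := by
    apply allN_of
    intro j hj
    rw [beq_iff_eq]
    have hj2 : 2 ^ j < 2 ^ 11 := Nat.pow_lt_pow_right (by norm_num) hj
    exact hperp (2 ^ j) hj2
  rw [hall] at hlow
  simp only [Bool.not_true, Bool.false_or, Bool.or_eq_true, beq_iff_eq] at hlow
  rcases hlow with h0 | h1
  · left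
    have e : m = enc k := Nat.xor_eq_zero_iff.mp (hm' ▸ h0)
    rw [e]
    exact wordOf_enc_mem k
  · right
    have e3 : m = 3189 ^^^ enc k := by
      have e4 : m = (m ^^^ enc k) ^^^ enc k := by
        rw [Nat.xor_assoc, Nat.xor_self, Nat.xor_zero]
      rw [e4, ← hm', h1]
    have e1 : m ^^^ 8388608 = enc (k ^^^ 2048) := by
      rw [enc_xor, enc_2048, e3, Nat.xor_comm 3189 (enc k), Nat.xor_assoc]
      rfl
    have e5 : wordOf m + Pi.single none 1 = wordOf (m ^^^ 8388608) := by
      rw [wordOf_xor, wordOf_einf]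
    rw [e5, e1]
    exact wordOf_enc_mem _

end Cfsg.Agent.Lib.Helper7.X23
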