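import Cfsg.Agent.Lib.Helper7.Ext23.Base

set_option autoImplicit false

/-! # Indices of the code words, and the checks for a lift of a permutation -/

namespace Cfsg.Agent.Lib.Helper7.X23

open Cfsg Cfsg.Agent.Lib.Helper7 Cfsg.Agent.Lib.Helper7.TitsC

theorem enc_bit23 {k : ℕ} (hk : k < 4096) : (enc k).testBit 23 = k.testBit 11 := by
  have h := enc_shift k hk
  rw [show (23 : ℕ) = 12 + 11 from rfl, ← Nat.testBit_shiftRight, h]

theorem cw_mem (x : ℕ) : wordOf (enc (x % 2048)) ∈ C0 := by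
  refine ⟨wordOf_enc_mem _, ?_⟩
  have hlt : x % 2048 < 2048 := Nat.mod_lt _ (by norm_num)
  have h : (enc (x % 2048)).testBit (idx none) = false := by
    show (enc (x % 2048)).testBit 23 = false
    rw [enc_bit23 (by omega)]
    exact Nat.testBit_lt_two_pow hlt
  rw [wordOf_apply, h]
  rfl

/-- the code word with index `x` -/
def cw (x : ℕ) : ↥C0 := ⟨wordOf (enc (x % 2048)), cw_mem x⟩

theorem cw_val {x : ℕ} (hx : x < 2048) : (cw x).1 = wordOf (enc x) := by
  show wordOf (enc (x % 2048)) = _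
  rw [Nat.mod_eq_of_lt hx]

theorem cw_xor (x y : ℕ) : cw (x ^^^ y) = cw x + cw y := by
  apply Subtype.ext
  show wordOf (enc ((x ^^^ y) % 2048)) = wordOf (enc (x % 2048)) + wordOf (enc (y % 2048))
  rw [← wordOf_xor, ← enc_xor]
  have h : (x ^^^ y) % 2 ^ 11 = x % 2 ^ 11 ^^^ y % 2 ^ 11 := Nat.xor_mod_two_pow
  rw [show (2048 : ℕ) = 2 ^ 11 from rfl, h]

theorem cw_zero : cw 0 = 0 :=
  Subtype.ext (by
    show wordOf (enc (0 % 2048)) = 0
    rw [Nat.zero_mod, enc_zero, wordOf_zero])

theorem ix_cw {x : ℕ} (hx : x < 2048) : ix (cw x).1 = x := by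
  rw [cw_val hx]
  unfold ix
  rw [maskOf_wordOf (enc_lt x), enc_shift x (by omega)]

theorem exists_cw (c : ↥C0) : ∃ x < 2048, c = cw x := by
  obtain ⟨k, hk, hc⟩ := (mem_golayCode_iff c.1).mp c.2.1
  have h0 : c.1 none = 0 := c.2.2
  have hk2 : k < 2048 := by
    by_contra hge
    have hbit : (enc k).testBit (idx none) = true := by
      show (enc k).testBit 23 = true
      rw [enc_bit23 hk, Nat.testBit_eq_decide_div_mod_eq]
      have h1 : k / 2 ^ 11 = 1 := by omega
      rw [h1]
      rfl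
    rw [hc, wordOf_apply, hbit] at h0
    exact absurd h0 (by decide)
  exact ⟨k, hk2, Subtype.ext (by rw [cw_val hk2]; exact hc)⟩

/-- the table `T` gives the action of the inverse of a permutation with table `tab` on the
indices -/
def chkTab (tab : List ℕ) (T : ℕ) : Bool :=
  allN 2048 (fun x => permMask tab (enc x) == enc (lane11 T x))

theorem act_inv_cw (σ : ↥Spor.M23) (tab : List ℕ) (hrep : Rep σ.1 tab)
    (hv : validTab tab = true) (T : ℕ) (htab : chkTab tab T = true) {x : ℕ} (hx : x < 2048) :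
    act σ⁻¹ (cw x) = cw (lane11 T x) := by
  apply Subtype.ext
  rw [act_val, cw_val hx, cw_val (lane11_lt T x)]
  have h1 : Rep ((σ⁻¹ : ↥Spor.M23).1).symm tab := hrep
  rw [wordOf_comp_symm h1 hv]
  have h2 := allN_spec _ _ htab x hx
  rw [beq_iff_eq] at h2
  rw [h2]

/-- the function with table `F` -/
noncomputable def fOf (F : ℕ) (c : ↥C0) : ZMod 2 := b2z (F.testBit (ix c.1))

theorem fOf_cw (F : ℕ) {x : ℕ} (hx : x < 2048) : fOf F (cw x) = b2z (F.testBit x) := by
  unfold fOf
  rw [ix_cw hx]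

theorem th_cw {x z : ℕ} (hx : x < 2048) (hz : z < 2048) :
    th (cw x).1 (cw z).1 = b2z (PAR.testBit (lane11 RT x &&& z)) := by
  unfold th
  rw [ix_cw hx, ix_cw hz]

/-! ### the check of the defect of additivity, on raw operations -/

/-- bitwise OR of the values of a function -/
def orN (n : ℕ) (g : ℕ → ℕ) : ℕ := Nat.rec 0 (fun z acc => Nat.lor acc (g z)) n

theorem orN_succ (n : ℕ) (g : ℕ → ℕ) : orN (n + 1) g = Nat.lor (orN n g) (g n) := rfl

theorem orN_spec (n : ℕ) (g : ℕ → ℕ) (h : orN n g = 0) : ∀ z < n, g z = 0 := by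
  induction n with
  | zero => intro z hz; omega
  | succ n ih =>
    rw [orN_succ] at h
    have h' : orN n g ||| g n = 0 := h
    rw [Nat.or_eq_zero_iff] at h'
    intro z hz
    rcases Nat.lt_succ_iff_lt_or_eq.mp hz with hz | rfl
    · exact ih h'.1 z hz
    · exact h'.2

/-- lane of a packed table, on raw operations -/
def rl (T x : ℕ) : ℕ := Nat.mod (Nat.shiftRight T (Nat.mul 11 x)) 2048

theorem rl_eq (T x : ℕ) : rl T x = lane11 T x := rfl

/-- the defect at one pair of indices, as a number -/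
def rowG (F T rax rx fx x z : ℕ) : ℕ :=
  Nat.xor (Nat.land (Nat.xor (Nat.xor (Nat.shiftRight F (Nat.xor x z)) (Nat.shiftRight F z))
    (Nat.xor (Nat.shiftRight PAR (Nat.land rax (rl T z))) (Nat.shiftRight PAR (Nat.land rx z))))
      1) fx

/-- one row of the check of the defect of additivity -/
def chkRow2 (F T x : ℕ) : Bool :=
  force (rl T x) (fun ax => force (rl RT ax) (fun rax => force (rl RT x) (fun rx =>
    force (Nat.land (Nat.shiftRight F x) 1) (fun fx =>
      Nat.beq (orN 2048 (rowG F T rax rx fx x)) 0))))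

theorem land_one (m : ℕ) : Nat.land m 1 = (m.testBit 0).toNat := by
  show m &&& 1 = _
  rw [Nat.and_one_is_mod, Nat.testBit_zero]
  rcases Nat.mod_two_eq_zero_or_one m with h | h <;> simp [h]

theorem shr_bit (F i : ℕ) : (Nat.shiftRight F i).testBit 0 = F.testBit i := by
  show (F >>> i).testBit 0 = _
  rw [Nat.testBit_shiftRight, Nat.add_zero]

theorem bool_row : ∀ a b c d e : Bool, (Bool.xor (Bool.xor a c) (Bool.xor d e)).toNat = b.toNat →
    Bool.xor (Bool.xor a b) c = Bool.xor d e := by decide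

theorem rowG_spec (F T rax rx fx x z : ℕ) (h : rowG F T rax rx fx x z = 0)
    (hfx : fx = (F.testBit x).toNat) :
    Bool.xor (Bool.xor (F.testBit (x ^^^ z)) (F.testBit x)) (F.testBit z)
      = Bool.xor (PAR.testBit (rax &&& lane11 T z)) (PAR.testBit (rx &&& z)) := by
  unfold rowG at h
  have h1 : Nat.land (Nat.xor (Nat.xor (Nat.shiftRight F (Nat.xor x z)) (Nat.shiftRight F z))
      (Nat.xor (Nat.shiftRight PAR (Nat.land rax (rl T z))) (Nat.shiftRight PAR (Nat.land rx z))))
        1 = fx := Nat.xor_eq_zero_iff.mp h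
  rw [land_one, hfx] at h1
  have h2 : ∀ a b : ℕ, (Nat.xor a b).testBit 0 = Bool.xor (a.testBit 0) (b.testBit 0) :=
    fun a b => Nat.testBit_xor a b 0
  rw [h2, h2, h2, shr_bit, shr_bit, shr_bit, shr_bit] at h1
  exact bool_row _ _ _ _ _ h1

theorem chkRow2_spec (F T x : ℕ) (h : chkRow2 F T x = true) : ∀ z < 2048,
    Bool.xor (Bool.xor (F.testBit (x ^^^ z)) (F.testBit x)) (F.testBit z)
      = Bool.xor (PAR.testBit (lane11 RT (lane11 T x) &&& lane11 T z))
          (PAR.testBit (lane11 RT x &&& z)) := by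
  unfold chkRow2 at h
  rw [force_eq, force_eq, force_eq, force_eq] at h
  have h1 := orN_spec _ _ (Nat.eq_of_beq_eq_true h)
  intro z hz
  exact rowG_spec F T _ _ _ x z (h1 z hz) (land_one _ ▸ congrArg Bool.toNat (shr_bit F x))

theorem mkH (σ : ↥Spor.M23) (tab : List ℕ) (hrep : Rep σ.1 tab) (hv : validTab tab = true)
    (F T : ℕ) (htab : chkTab tab T = true) (hrow : ∀ x < 2048, chkRow2 F T x = true) :
    ∀ c d : ↥C0, fOf F (c + d) + fOf F c + fOf F d
      = th (act σ⁻¹ c).1 (act σ⁻¹ d).1 + th c.1 d.1 := by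
  intro c d
  obtain ⟨x, hx, rfl⟩ := exists_cw c
  obtain ⟨z, hz, rfl⟩ := exists_cw d
  have hxz : x ^^^ z < 2048 := Nat.xor_lt_two_pow (n := 11) hx hz
  rw [← cw_xor, fOf_cw F hxz, fOf_cw F hx, fOf_cw F hz, act_inv_cw σ tab hrep hv T htab hx,
    act_inv_cw σ tab hrep hv T htab hz, th_cw (lane11_lt T x) (lane11_lt T z), th_cw hx hz,
    ← b2z_xor, ← b2z_xor, ← b2z_xor, chkRow2_spec F T x (hrow x hx) z hz]

/-- four quarters of the rows -/
theorem rows_of_quarters (F T : ℕ)
    (h0 : allN 512 (fun i => chkRow2 F T i) = true)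
    (h1 : allN 512 (fun i => chkRow2 F T (512 + i)) = true)
    (h2 : allN 512 (fun i => chkRow2 F T (1024 + i)) = true)
    (h3 : allN 512 (fun i => chkRow2 F T (1536 + i)) = true) :
    ∀ x < 2048, chkRow2 F T x = true := by
  intro x hx
  rcases (by omega : x < 512 ∨ (512 ≤ x ∧ x < 1024) ∨ (1024 ≤ x ∧ x < 1536) ∨ 1536 ≤ x)
    with h | h | h | h
  · exact allN_spec _ _ h0 x h
  · have e := allN_spec _ _ h1 (x - 512) (by omega)
    rwa [show 512 + (x - 512) = x by omega] at e
  · have e := allN_spec _ _ h2 (x - 1024) (by omega)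
    rwa [show 1024 + (x - 1024) = x by omega] at e
  · have e := allN_spec _ _ h3 (x - 1536) (by omega)
    rwa [show 1536 + (x - 1536) = x by omega] at e

theorem shift_mem23 : shiftPerm ∈ Spor.M23 := Subgroup.mem_inf.mpr ⟨shiftPerm_mem, rfl⟩

theorem cube_mem23 : Cfsg.cubeTwist ∈ Spor.M23 := Subgroup.mem_inf.mpr ⟨cubeTwist_mem, rfl⟩

/-- the shift as an element of `M23` -/
def aM : ↥Spor.M23 := ⟨shiftPerm, shift_mem23⟩

/-- the cube twist as an element of `M23` -/
noncomputable def cM : ↥Spor.M23 := ⟨Cfsg.cubeTwist, cube_mem23⟩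

theorem chkTabA : chkTab tabA AIA = true := by decide +kernel

theorem chkTabC : chkTab tabC AIC = true := by decide +kernel

end Cfsg.Agent.Lib.Helper7.X23
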