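import Cfsg.Agent.Lib.Helper7.Ext23.ChkC3

set_option autoImplicit false
set_option maxRecDepth 100000

/-! # The extension maps onto `M23` and has no complement -/

namespace Cfsg.Agent.Lib.Helper7.X23

open Cfsg Cfsg.Agent.Lib.Helper7 Cfsg.Agent.Lib.Helper7.TitsC

theorem rowsA : ∀ x < 2048, chkRow2 FA AIA x = true :=
  rows_of_quarters FA AIA chkA0 chkA1 chkA2 chkA3

theorem rowsC : ∀ x < 2048, chkRow2 FC AIC x = true :=
  rows_of_quarters FC AIC chkC0 chkC1 chkC2 chkC3

theorem validA : validTab tabA = true := by decide +kernel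

theorem validC : validTab tabC = true := by decide +kernel

/-- the lift of the shift -/
noncomputable def ea : EE := ⟨aM, fOf FA, mkH aM tabA rep_shift validA FA AIA chkTabA rowsA⟩

/-- the lift of the cube twist -/
noncomputable def ec : EE := ⟨cM, fOf FC, mkH cM tabC rep_cubeTwist validC FC AIC chkTabC rowsC⟩

/-- the product of a word in two elements -/
noncomputable def wE (sa sc : EE) (w : List ℕ) : EE := (w.map fun l => [sa, sc].getD l 1).prod

theorem wE_nil (sa sc : EE) : wE sa sc [] = 1 := rfl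

theorem wE_cons (sa sc : EE) (l : ℕ) (w : List ℕ) :
    wE sa sc (l :: w) = [sa, sc].getD l 1 * wE sa sc w := by
  unfold wE
  rw [List.map_cons, List.prod_cons]

theorem evalW_cons (L : List (Equiv.Perm GolayPt)) (l : ℕ) (w : List ℕ) :
    evalW L (l :: w) = L.getD l 1 * evalW L w := by
  unfold evalW
  rw [List.map_cons, List.prod_cons]

theorem wE_p (sa sc : EE) (ha : sa.p = aM) (hc : sc.p = cM) (w : List ℕ) :
    ((wE sa sc w).p : Equiv.Perm GolayPt) = evalW [shiftPerm, Cfsg.cubeTwist] w := by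
  induction w with
  | nil => rfl
  | cons l w ih =>
    rw [wE_cons, mul_p, Subgroup.coe_mul, ih, evalW_cons]
    congr 1
    rcases l with _ | _ | l
    · show (sa.p : Equiv.Perm GolayPt) = shiftPerm
      rw [ha]
      rfl
    · show (sc.p : Equiv.Perm GolayPt) = Cfsg.cubeTwist
      rw [hc]
      rfl
    · rfl

/-! ### generation -/

theorem M23_eq : Spor.M23 = fixSub 8388608 := by
  ext g
  rw [mem_fixSub]
  constructor
  · intro hg
    have h := Subgroup.mem_inf.mp hg
    refine ⟨h.1, fun i _ hb => ?_⟩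
    have hi23 : i = 23 := by
      rw [show (8388608 : ℕ) = 2 ^ 23 from rfl, Nat.testBit_two_pow] at hb
      exact (of_decide_eq_true hb).symm
    subst hi23
    have h3 : g none = none := h.2
    exact h3
  · rintro ⟨h1, h2⟩
    have h3 : g none = none := h2 23 (by norm_num) (by decide)
    exact Subgroup.mem_inf.mpr ⟨h1, h3⟩

theorem gens_rep : List.Forall₂ RepT [shiftPerm, Cfsg.cubeTwist] [tA, tC] :=
  List.Forall₂.cons repT_shift (List.Forall₂.cons repT_cubeTwist List.Forall₂.nil)

/-- the indices of the strong generators of the point stabiliser -/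
def LIDX : List ℕ := [0, 2, 3, 4, 5, 6, 7, 8, 9, 10, 11]

theorem words_ok : (List.range 11).all (fun k =>
    evalT [tA, tC] (WORDS.getD k []) == ltabs.getD (LIDX.getD k 0) idT) = true := by
  decide +kernel

theorem lidx_ok : ∀ l ∈ LIDX, ∃ k < 11, l = LIDX.getD k 0 := by decide

theorem exists_lift (g : ↥Spor.M23) : ∃ x : EE, x.p = g := by
  have hg : (g : Equiv.Perm GolayPt) ∈ selGrp LIDX := by
    show (g : Equiv.Perm GolayPt) ∈ selGrp [0, 2, 3, 4, 5, 6, 7, 8, 9, 10, 11]
    rw [← fixSub1_eq, ← M23_eq]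
    exact g.2
  have key : ∀ σ ∈ selGrp LIDX, ∃ x : EE, (x.p : Equiv.Perm GolayPt) = σ := by
    intro σ hσ
    induction hσ using Subgroup.closure_induction with
    | mem τ hτ =>
      obtain ⟨l, hl, rfl⟩ := List.mem_map.mp hτ
      obtain ⟨k, hk, rfl⟩ := lidx_ok l hl
      refine ⟨wE ea ec (WORDS.getD k []), ?_⟩
      rw [wE_p ea ec rfl rfl]
      have h1 := all_range words_ok k hk
      rw [beq_iff_eq] at h1
      have r1 := repT_evalW gens_rep (WORDS.getD k [])
      rw [h1] at r1
      exact RepT.ext r1 (repT_getD letters_rep _)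
    | one => exact ⟨1, rfl⟩
    | mul a b _ _ iha ihb =>
      obtain ⟨x, rfl⟩ := iha
      obtain ⟨y, rfl⟩ := ihb
      exact ⟨x * y, rfl⟩
    | inv a _ iha =>
      obtain ⟨x, rfl⟩ := iha
      exact ⟨x⁻¹, rfl⟩
  obtain ⟨x, hx⟩ := key _ hg
  exact ⟨x, Subtype.ext hx⟩

theorem pr_surjective : Function.Surjective pr := fun g => exists_lift g

/-! ### no complement -/

/-- the value of the function of a word at an index, without the corrections -/
def trF : List ℕ → ℕ → Bool
  | [], _ => false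
  | 0 :: w, x => Bool.xor (FA.testBit x) (trF w (lane11 AIA x))
  | 1 :: w, x => Bool.xor (FC.testBit x) (trF w (lane11 AIC x))
  | (_ + 2) :: w, x => trF w x

/-- the index at which the correction of the first lift is evaluated -/
def trA : List ℕ → ℕ → ℕ
  | [], _ => 0
  | 0 :: w, x => x ^^^ trA w (lane11 AIA x)
  | 1 :: w, x => trA w (lane11 AIC x)
  | (_ + 2) :: w, x => trA w x

/-- the index at which the correction of the second lift is evaluated -/
def trC : List ℕ → ℕ → ℕ
  | [], _ => 0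
  | 0 :: w, x => trC w (lane11 AIA x)
  | 1 :: w, x => x ^^^ trC w (lane11 AIC x)
  | (_ + 2) :: w, x => trC w x

theorem z2_zero_of : ∀ a : ZMod 2, a = a + a → a = 0 := by decide

theorem z2_ab : ∀ a b : ZMod 2, a = b + (a + b) := by decide

theorem z2_two : ∀ a b c a' b' c' r : ZMod 2, a + b + c = r → a' + b' + c' = r →
    a + a' = (b + b') + (c + c') := by decide

theorem z2_tr0 : ∀ f a t a' c' : ZMod 2, f + a + (t + a' + c') = f + t + (a + a') + c' := by
  decide

theorem z2_tr1 : ∀ f c t a' c' : ZMod 2, f + c + (t + a' + c') = f + t + a' + (c + c') := by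
  decide

theorem trace (sa sc : EE) (hap : sa.p = aM) (hcp : sc.p = cM) (ha hc : ↥C0 → ZMod 2)
    (haf : ∀ c, sa.f c = fOf FA c + ha c) (hcf : ∀ c, sc.f c = fOf FC c + hc c)
    (hadd_a : ∀ c d, ha (c + d) = ha c + ha d) (hadd_c : ∀ c d, hc (c + d) = hc c + hc d) :
    ∀ (w : List ℕ) (x : ℕ), x < 2048 → (wE sa sc w).f (cw x)
      = b2z (trF w x) + ha (cw (trA w x)) + hc (cw (trC w x)) := by
  have ha0 : ha 0 = 0 := by
    have h := hadd_a 0 0
    rw [add_zero] at h
    exact z2_zero_of _ h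
  have hc0 : hc 0 = 0 := by
    have h := hadd_c 0 0
    rw [add_zero] at h
    exact z2_zero_of _ h
  intro w
  induction w with
  | nil =>
    intro x _
    rw [wE_nil, one_f]
    show 0 = b2z false + ha (cw 0) + hc (cw 0)
    rw [cw_zero, ha0, hc0]
    rfl
  | cons l w ih =>
    intro x hx
    rw [wE_cons, mul_f]
    rcases l with _ | _ | l
    · have e1 : ([sa, sc].getD 0 1) = sa := rfl
      have t1 : trF (0 :: w) x = Bool.xor (FA.testBit x) (trF w (lane11 AIA x)) := rfl
      have t2 : trA (0 :: w) x = x ^^^ trA w (lane11 AIA x) := rfl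
      have t3 : trC (0 :: w) x = trC w (lane11 AIA x) := rfl
      rw [e1, haf, hap, act_inv_cw aM tabA rep_shift validA AIA chkTabA hx,
        ih _ (lane11_lt _ _), fOf_cw FA hx, t1, t2, t3, b2z_xor, cw_xor, hadd_a]
      exact z2_tr0 _ _ _ _ _
    · have e1 : ([sa, sc].getD 1 1) = sc := rfl
      have t1 : trF (1 :: w) x = Bool.xor (FC.testBit x) (trF w (lane11 AIC x)) := rfl
      have t2 : trA (1 :: w) x = trA w (lane11 AIC x) := rfl
      have t3 : trC (1 :: w) x = x ^^^ trC w (lane11 AIC x) := rfl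
      rw [e1, hcf, hcp, act_inv_cw cM tabC rep_cubeTwist validC AIC chkTabC hx,
        ih _ (lane11_lt _ _), fOf_cw FC hx, t1, t2, t3, b2z_xor, cw_xor, hadd_c]
      exact z2_tr1 _ _ _ _ _
    · have e1 : ([sa, sc].getD (l + 2) 1) = 1 := rfl
      have t1 : trF ((l + 2) :: w) x = trF w x := rfl
      have t2 : trA ((l + 2) :: w) x = trA w x := rfl
      have t3 : trC ((l + 2) :: w) x = trC w x := rfl
      rw [e1, one_f, one_p, inv_one, act_one, zero_add, ih x hx, t1, t2, t3]

theorem w_eq : evalT [tA, tC] W1 = evalT [tA, tC] W2 := by decide +kernel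

theorem cert : trA W1 X0 = trA W2 X0 ∧ trC W1 X0 = trC W2 X0 ∧ trF W1 X0 = !trF W2 X0 := by
  decide +kernel

theorem b2z_not (t : Bool) (a c : ZMod 2) : b2z (!t) + a + c ≠ b2z t + a + c := by
  revert a c
  cases t <;> decide

/-- the kernel of the projection has no complement -/
theorem nonsplit (H : Subgroup EE) (h1 : H ⊓ pr.ker = ⊥) : H ⊔ pr.ker ≠ ⊤ := by
  intro h2
  have lift : ∀ e : EE, ∃ s ∈ H, s.p = e.p := by
    intro e
    have he : e ∈ H ⊔ pr.ker := by
      rw [h2]
      exact Subgroup.mem_top e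
    obtain ⟨s, hs, n, hn, rfl⟩ := Subgroup.mem_sup_of_normal_right.mp he
    refine ⟨s, hs, ?_⟩
    have hn1 : n.p = 1 := MonoidHom.mem_ker.mp hn
    rw [mul_p, hn1, mul_one]
  obtain ⟨sa, hsa, hap⟩ := lift ea
  obtain ⟨sc, hsc, hcp⟩ := lift ec
  have hadd : ∀ (s e : EE), s.p = e.p → ∀ c d : ↥C0,
      s.f (c + d) + e.f (c + d) = (s.f c + e.f c) + (s.f d + e.f d) := by
    intro s e hp c d
    have hs := s.h c d
    have he := e.h c d
    rw [hp] at hs
    exact z2_two _ _ _ _ _ _ _ hs he
  have hm : ∀ w, wE sa sc w ∈ H := fun w => Subgroup.list_prod_mem _ (by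
    intro x hx
    obtain ⟨l, -, rfl⟩ := List.mem_map.mp hx
    rcases l with _ | _ | l
    · exact hsa
    · exact hsc
    · exact H.one_mem)
  have hw : wE sa sc W1 = wE sa sc W2 := by
    have hp : (wE sa sc W1).p = (wE sa sc W2).p := by
      apply Subtype.ext
      rw [wE_p sa sc hap hcp, wE_p sa sc hap hcp]
      have r1 := repT_evalW gens_rep W1
      have r2 := repT_evalW gens_rep W2
      rw [w_eq] at r1
      exact RepT.ext r1 r2
    have hk : wE sa sc W1 * (wE sa sc W2)⁻¹ ∈ H ⊓ pr.ker := by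
      refine Subgroup.mem_inf.mpr ⟨H.mul_mem (hm _) (H.inv_mem (hm _)), ?_⟩
      rw [MonoidHom.mem_ker, map_mul, map_inv, pr_apply, pr_apply, hp, mul_inv_cancel]
    rw [h1, Subgroup.mem_bot] at hk
    exact mul_inv_eq_one.mp hk
  have tr := trace sa sc hap hcp (fun c => sa.f c + fOf FA c) (fun c => sc.f c + fOf FC c)
    (fun c => z2_ab _ _) (fun c => z2_ab _ _) (hadd sa ea hap) (hadd sc ec hcp)
  have tr1 := tr W1 X0 (by decide)
  have tr2 := tr W2 X0 (by decide)
  rw [hw, tr2, cert.1, cert.2.1, cert.2.2] at tr1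
  exact b2z_not _ _ _ tr1.symm

end Cfsg.Agent.Lib.Helper7.X23
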