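import Cfsg.Agent.Lib.Helper7.Ext23.Lift
import Cfsg.Agent.Lib.Helper7.Ext23.Code

set_option autoImplicit false

/-! # A non-split extension of `M23` by the quotient of the cocode -/

namespace Cfsg.Agent.Lib.Helper7.X23

open Cfsg Cfsg.Agent.Lib.Helper7

theorem theta_ker (w : V) :
    theta w = 0 ↔ (w ∈ golayCode ∨ w + Pi.single none 1 ∈ golayCode) := by
  rw [theta_eq_zero_iff]
  constructor
  · exact perp_C0
  · rintro (h | h) c
    · exact dot_code_C0 h c
    · exact dot_code_einf h c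

/-- a non-split extension of `M23` by the quotient of the cocode exists -/
theorem ext_main :
    ∃ (E : Type) (_ : Group E) (_ : Finite E) (N : Subgroup E) (_ : N.Normal)
      (φ : E ⧸ N ≃* ↥Cfsg.Spor.M23) (θ : (Cfsg.GolayPt → ZMod 2) →+ Additive ↥N),
      Function.Surjective θ ∧
      (∀ w : Cfsg.GolayPt → ZMod 2, θ w = 0 ↔
        (w ∈ Cfsg.golayCode ∨ w + Pi.single none 1 ∈ Cfsg.golayCode)) ∧
      (∀ (g : E) (w : Cfsg.GolayPt → ZMod 2),
        ((θ (w ∘ ⇑(((φ (QuotientGroup.mk g) : ↥Cfsg.Spor.M23) :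
          Equiv.Perm Cfsg.GolayPt)⁻¹))).toMul : E) = g * ((θ w).toMul : E) * g⁻¹) ∧
      ∀ H : Subgroup E, H ⊓ N = ⊥ → H ⊔ N ≠ ⊤ :=
  ⟨EE, inferInstance, inferInstance, pr.ker, inferInstance,
    QuotientGroup.quotientKerEquivOfSurjective pr pr_surjective, theta, theta_surjective,
    theta_ker, fun g w => conj_nEl g w, nonsplit⟩

end Cfsg.Agent.Lib.Helper7.X23
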